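import Groth.Agent.Hopf43.Env
import Groth.Prelude.Def_CartDual2
import Groth.Agent.S17328
import Mathlib.RingTheory.Derivation.Lie

/-! A restricted Lie algebra is the Lie algebra of the dual of its restricted enveloping algebra. -/

set_option autoImplicit false

universe u v

open TensorProduct

namespace Groth.Agent.Hopf43.Deriv

open Groth.Agent.Hopf43.Env

variable {k : Type u} [Field k] {p : ℕ} [Fact p.Prime] [CharP k p]
  {L : Type v} [LieRing L] [LieAlgebra k L] {n : ℕ} (b : Module.Basis (Fin n) k L) (φ : PLie.PMap k p L)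

/-- The coordinate Hopf algebra of the group of height at most one. -/
abbrev A : Type (max u v) := CartDual.D k (E b φ)

theorem mul_apply' (f g : A b φ) (a : E b φ) :
    (f * g).ofConv a = LinearMap.mul' k k (TensorProduct.map f.ofConv g.ofConv (dlt b φ a)) :=
  LinearMap.convMul_apply f g a

theorem one_apply' (a : E b φ) : (1 : A b φ).ofConv a = eps b φ a :=
  LinearMap.convOne_apply a

theorem mul_apply_one (f g : A b φ) : (f * g).ofConv 1 = f.ofConv 1 * g.ofConv 1 := by
  simp [mul_apply', Algebra.TensorProduct.one_def]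

theorem mul_apply_mul_j (f g : A b φ) (a : E b φ) (x : L) :
    (f * g).ofConv (a * j b φ x) =
      (f * WithConv.toConv (g.ofConv ∘ₗ LinearMap.mulRight k (j b φ x))).ofConv a +
        (g * WithConv.toConv (f.ofConv ∘ₗ LinearMap.mulRight k (j b φ x))).ofConv a := by
  rw [mul_comm g, mul_apply', mul_apply', mul_apply', map_mul, dlt_j]
  generalize dlt b φ a = t
  induction t with
  | zero => simp
  | add y z hy hz => simp only [add_mul, map_add, hy, hz]; ring
  | tmul a₁ a₂ => simp [mul_add, map_add]; ring

/-- Right translation by `x ∈ L`, as a derivation. -/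
noncomputable def rD (x : L) : Derivation k (A b φ) (A b φ) :=
  Derivation.mk'
    { toFun := fun f => WithConv.toConv (f.ofConv ∘ₗ LinearMap.mulRight k (j b φ x))
      map_add' := fun f g => WithConv.ext (LinearMap.ext fun a => by simp)
      map_smul' := fun c f => WithConv.ext (LinearMap.ext fun a => by simp) }
    fun f g => by
      refine WithConv.ext (LinearMap.ext fun a => ?_)
      show (f * g).ofConv (a * j b φ x) = _
      rw [mul_apply_mul_j]
      simp only [smul_eq_mul, WithConv.ofConv_add, LinearMap.add_apply, LinearMap.coe_mk, AddHom.coe_mk]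

theorem rD_apply (x : L) (f : A b φ) (a : E b φ) : (rD b φ x f).ofConv a = f.ofConv (a * j b φ x) := rfl

/-- The map `L → Derivation`. -/
noncomputable def e : L →ₗ[k] Derivation k (A b φ) (A b φ) where
  toFun := rD b φ
  map_add' x y := Derivation.ext fun f => WithConv.ext (LinearMap.ext fun a => by simp [rD_apply, mul_add])
  map_smul' c x := Derivation.ext fun f => WithConv.ext (LinearMap.ext fun a => by simp [rD_apply])

theorem e_apply (x : L) (f : A b φ) (a : E b φ) : (e b φ x f).ofConv a = f.ofConv (a * j b φ x) := rfl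

theorem e_injective : Function.Injective (e b φ) := by
  rw [injective_iff_map_eq_zero]
  intro x hx
  refine j_injective b φ ?_
  rw [map_zero, ← Module.forall_dual_apply_eq_zero_iff k]
  intro f
  have h := congrArg (fun D : Derivation k (A b φ) (A b φ) => (D (WithConv.toConv f)).ofConv (1 : E b φ)) hx
  simpa [e_apply] using h

theorem e_lie (x y : L) : e b φ ⁅x, y⁆ = ⁅e b φ x, e b φ y⁆ := by
  refine Derivation.ext fun f => WithConv.ext (LinearMap.ext fun a => ?_)
  simp [e_apply, Derivation.commutator_apply, j_lie, mul_sub, mul_assoc]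

theorem e_pow_apply (x : L) (m : ℕ) : ∀ (f : A b φ) (a : E b φ),
    (((e b φ x).toLinearMap ^ m) f).ofConv a = f.ofConv (a * j b φ x ^ m) := by
  induction m with
  | zero => intro f a; simp
  | succ m ih =>
    intro f a
    rw [pow_succ, Module.End.mul_apply, ih]
    show (e b φ x f).ofConv _ = _
    rw [e_apply, mul_assoc, pow_succ]

theorem e_pmap (x : L) : (e b φ (φ x)).toLinearMap = (e b φ x).toLinearMap ^ p :=
  LinearMap.ext fun f => WithConv.ext (LinearMap.ext fun a => by
    rw [e_pow_apply, ← j_pow]
    rfl)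

theorem e_leftInvariant (x : L) :
    CoalgebraStruct.comul (R := k) (A := A b φ) ∘ₗ (e b φ x).toLinearMap =
      LinearMap.lTensor (A b φ) (e b φ x).toLinearMap ∘ₗ CoalgebraStruct.comul (R := k) (A := A b φ) := by
  refine LinearMap.ext fun f => (CartDual.ev₂ k (E b φ)).injective (TensorProduct.ext' fun a c => ?_)
  have h : ∀ y : A b φ ⊗[k] A b φ, CartDual.ev₂ k (E b φ) (LinearMap.lTensor (A b φ) (e b φ x).toLinearMap y)
      (a ⊗ₜ c) = CartDual.ev₂ k (E b φ) y (a ⊗ₜ (c * j b φ x)) := by
    intro y
    induction y with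
    | zero => simp
    | add y z hy hz => simp only [map_add, LinearMap.add_apply, hy, hz]
    | tmul f g => simp [CartDual.coe_apply, e_apply]
  simp only [LinearMap.comp_apply]
  rw [h, CartDual.ev₂_coalgebra_comul_tmul, CartDual.ev₂_coalgebra_comul_tmul, CartDual.coe_apply,
    CartDual.coe_apply, ← mul_assoc]
  rfl

/-- Elements on which every product of functions is evaluated as a derivation at the origin. -/
noncomputable def P : Submodule k (E b φ) where
  carrier := {w | ∀ f g : A b φ, (f * g).ofConv w = f.ofConv w * g.ofConv 1 + f.ofConv 1 * g.ofConv w}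
  add_mem' := fun {v w} hv hw f g => by simp only [map_add, hv f g, hw f g]; ring
  zero_mem' := fun f g => by simp
  smul_mem' := fun c w hw f g => by simp only [map_smul, smul_eq_mul, hw f g]; ring

theorem j_mem_P (x : L) : j b φ x ∈ P b φ := by
  intro f g
  have h := mul_apply_mul_j b φ f g 1 x
  rw [one_mul] at h
  rw [h, mul_apply_one, mul_apply_one]
  simp
  ring

theorem leftInvariant_apply (D : Derivation k (A b φ) (A b φ))
    (hD : CoalgebraStruct.comul (R := k) (A := A b φ) ∘ₗ D.toLinearMap =
      LinearMap.lTensor (A b φ) D.toLinearMap ∘ₗ CoalgebraStruct.comul (R := k) (A := A b φ)) :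
    ∃ w ∈ P b φ, ∀ (f : A b φ) (a : E b φ), (D f).ofConv a = f.ofConv (a * w) := by
  let d : Module.Dual k (Module.Dual k (E b φ)) :=
    (CartDual.counit k (E b φ)) ∘ₗ D.toLinearMap ∘ₗ (CartDual.toDual k (E b φ)).symm.toLinearMap
  let w := (Module.evalEquiv k (E b φ)).symm d
  have hw : ∀ f : A b φ, f.ofConv w = (D f).ofConv 1 := fun f => Module.apply_evalEquiv_symm_apply ..
  refine ⟨w, fun f g => ?_, fun f a => ?_⟩
  · rw [hw, hw, hw, D.leibniz, WithConv.ofConv_add, LinearMap.add_apply, smul_eq_mul, smul_eq_mul,
      mul_apply_one, mul_apply_one]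
    ring
  · have h := LinearMap.congr_fun (congrArg (CartDual.ev₂ k (E b φ)) (LinearMap.congr_fun hD f)) (a ⊗ₜ 1)
    have key : ∀ y : A b φ ⊗[k] A b φ, CartDual.ev₂ k (E b φ) (LinearMap.lTensor (A b φ) D.toLinearMap y)
        (a ⊗ₜ 1) = CartDual.ev₂ k (E b φ) y (a ⊗ₜ w) := by
      intro y
      induction y with
      | zero => simp
      | add y z hy hz => simp only [map_add, LinearMap.add_apply, hy, hz]
      | tmul f g => simp [CartDual.coe_apply, hw]
    simp only [LinearMap.comp_apply] at h
    rw [key, CartDual.ev₂_coalgebra_comul_tmul, CartDual.ev₂_coalgebra_comul_tmul, mul_one] at h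
    exact h

theorem pow_p_eq_zero (f : A b φ) (hf : Bialgebra.counitAlgHom k (A b φ) f = 0) : f ^ p = 0 := by
  replace hf : f.ofConv 1 = 0 := hf
  have hx : ∀ (x : L) (a : E b φ), (f ^ p).ofConv (a * j b φ x) = 0 := fun x a => by
    rw [← e_apply, Derivation.leibniz_pow, ← Nat.cast_smul_eq_nsmul k, CharP.cast_eq_zero, zero_smul]
    simp
  have h1 : ∀ (f : A b φ) (m : ℕ), (f ^ m).ofConv 1 = f.ofConv 1 ^ m := by
    intro f m
    induction m with
    | zero => simp [one_apply']
    | succ m ih => rw [pow_succ, mul_apply_one, ih, pow_succ]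
  have key : ∀ c a : E b φ, (f ^ p).ofConv (a * c) = eps b φ c * (f ^ p).ofConv a := by
    intro c
    induction c using Env.induction b φ with
    | halg r => intro a; rw [← Algebra.commutes, ← Algebra.smul_def, map_smul, AlgHom.commutes]; rfl
    | hj x => intro a; rw [hx, eps_j, zero_mul]
    | hadd c d hc hd => intro a; rw [mul_add, map_add, map_add, hc, hd, add_mul]
    | hmul c d hc hd => intro a; rw [← mul_assoc, hd, hc, map_mul]; ring
  refine WithConv.ext (LinearMap.ext fun c => ?_)
  have h := key c 1
  rw [one_mul] at h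
  rw [h, h1, hf, zero_pow (Fact.out : p.Prime).ne_zero, mul_zero]
  simp

theorem finrank_P_le : Module.finrank k (P b φ) ≤
    Module.finrank k (RingHom.ker (Bialgebra.counitAlgHom k (A b φ))).Cotangent := by
  set m : Ideal (A b φ) := RingHom.ker (Bialgebra.counitAlgHom k (A b φ)) with hm
  have hmem : ∀ {f : A b φ}, f ∈ m → f.ofConv 1 = 0 := fun {f} hf => hf
  let π : m →ₗ[k] m.Cotangent := m.toCotangent.restrictScalars k
  have hπ : Function.Surjective π := m.toCotangent_surjective
  let R : P b φ →ₗ[k] Module.Dual k m :=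
    LinearMap.mk₂ k (fun (w : P b φ) (f : m) => (f : A b φ).ofConv (w : E b φ))
      (fun w w' f => map_add _ _ _) (fun c w f => map_smul _ _ _) (fun w f f' => rfl) (fun c w f => rfl)
  have hR : Function.Injective R := by
    rw [injective_iff_map_eq_zero]
    intro w hw
    refine Subtype.ext ?_
    show (w : E b φ) = 0
    rw [← Module.forall_dual_apply_eq_zero_iff k]
    intro f
    have he : eps b φ w = 0 := by
      have := w.2 1 1
      simp only [one_mul, one_apply', map_one, mul_one] at this
      simpa using this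
    have := LinearMap.congr_fun hw ⟨WithConv.toConv f - f 1 • 1, show _ = (0 : k) by
      show f 1 - f 1 * (1 : A b φ).ofConv 1 = 0
      rw [one_apply', map_one (eps b φ), mul_one, sub_self]⟩
    simpa [R, one_apply', counit_apply, he] using this
  have hle : LinearMap.range R ≤ LinearMap.range π.dualMap := by
    obtain ⟨s, hs⟩ := π.exists_rightInverse_of_surjective (LinearMap.range_eq_top.2 hπ)
    rintro _ ⟨w, rfl⟩
    refine ⟨(R w).comp s, LinearMap.ext fun f₀ => ?_⟩
    have hsq : ∀ g ∈ m ^ 2, g.ofConv (w : E b φ) = 0 := by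
      intro g hg
      rw [sq] at hg
      refine Submodule.mul_induction_on hg (fun g hg g' hg' => ?_) (fun g g' ih ih' => ?_)
      · rw [w.2 g g', hmem hg, hmem hg']; ring
      · simp [ih, ih']
    have h1 : π (s (π f₀)) = π f₀ := LinearMap.congr_fun hs _
    have h2 : ((s (π f₀) : A b φ) - (f₀ : A b φ)).ofConv (w : E b φ) = 0 := hsq _ (m.toCotangent_eq.1 h1)
    rw [WithConv.ofConv_sub, LinearMap.sub_apply, sub_eq_zero] at h2
    exact h2
  haveI : Module.Finite k m.Cotangent := Module.Finite.of_surjective π hπ
  calc Module.finrank k (P b φ) = Module.finrank k (LinearMap.range R) :=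
        (LinearMap.finrank_range_of_inj hR).symm
    _ ≤ Module.finrank k (LinearMap.range π.dualMap) := Submodule.finrank_mono hle
    _ ≤ Module.finrank k (Module.Dual k m.Cotangent) := LinearMap.finrank_range_le _
    _ = _ := Subspace.dual_finrank_eq

theorem range_j [IsAlgClosed k] : LinearMap.range (j b φ) = P b φ := by
  refine Submodule.eq_of_le_of_finrank_le (by rintro _ ⟨x, rfl⟩; exact j_mem_P b φ x) ?_
  rw [LinearMap.finrank_range_of_inj (j_injective b φ), Module.finrank_eq_card_basis b, Fintype.card_fin]
  refine (finrank_P_le b φ).trans ((Nat.pow_le_pow_iff_right (Fact.out : p.Prime).one_lt).1 ?_)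
  rw [← S17328.result k p (A b φ) (fun f => pow_p_eq_zero b φ f), (CartDual.toDual k (E b φ)).finrank_eq,
    Subspace.dual_finrank_eq]
  exact Env.finrank_le b φ

theorem range_e [IsAlgClosed k] : Set.range (e b φ) = {D : Derivation k (A b φ) (A b φ) |
    CoalgebraStruct.comul (R := k) (A := A b φ) ∘ₗ D.toLinearMap =
      LinearMap.lTensor (A b φ) D.toLinearMap ∘ₗ CoalgebraStruct.comul (R := k) (A := A b φ)} := by
  refine Set.Subset.antisymm (Set.range_subset_iff.2 (e_leftInvariant b φ)) fun D hD => ?_
  obtain ⟨w, hw, h⟩ := leftInvariant_apply b φ D hD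
  rw [← range_j] at hw
  obtain ⟨x, rfl⟩ := hw
  exact ⟨x, Derivation.ext fun f => WithConv.ext (LinearMap.ext fun a => (h f a).symm)⟩

end Groth.Agent.Hopf43.Deriv
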