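import Groth.Agent.PLie29.Faithful
import Mathlib.RingTheory.HopfAlgebra.Basic

/-! The restricted enveloping algebra of a finite-dimensional restricted Lie algebra, as a cocommutative
finite-dimensional Hopf algebra. -/

set_option autoImplicit false

universe u v

open TensorProduct UniversalEnvelopingAlgebra
open Groth.Agent.Hopf35 Groth.Agent.PLie29

namespace Groth.Agent.Hopf43.Env

attribute [local instance] LieRing.ofAssociativeRing

variable {k : Type u} [Field k] {p : ℕ} [Fact p.Prime] [CharP k p]
  {L : Type v} [LieRing L] [LieAlgebra k L] {n : ℕ} (b : Module.Basis (Fin n) k L) (φ : PLie.PMap k p L)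

local notation "U" => UniversalEnvelopingAlgebra k L

/-- The kernel of `U(L) → u(L)` as an ideal. -/
noncomputable def J : Ideal U where
  carrier := Faithful.I b φ
  add_mem' := fun hx hy => add_mem hx hy
  zero_mem' := zero_mem _
  smul_mem' := fun a _ hx => Faithful.mul_mem_I b φ a hx

theorem mem_J {x : U} : x ∈ J b φ ↔ x ∈ Faithful.I b φ := Iff.rfl

instance : (J b φ).IsTwoSided := ⟨fun {x} a hx => by
  have h : Faithful.I b φ ≤ (Faithful.I b φ).comap (LinearMap.mulRight k a) := iSup_le fun i => by
    rintro _ ⟨y, rfl⟩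
    rw [Submodule.mem_comap, LinearMap.mulRight_apply, LinearMap.mulLeft_apply, mul_assoc]
    exact Faithful.z_mul_mem b φ i _
  exact h hx⟩

/-- The restricted enveloping algebra. -/
abbrev E : Type (max u v) := UniversalEnvelopingAlgebra k L ⧸ J b φ

/-- The projection. -/
noncomputable def π : U →ₐ[k] E b φ := Ideal.Quotient.mkₐ k (J b φ)

theorem π_surjective : Function.Surjective (π b φ) := Ideal.Quotient.mkₐ_surjective k _

theorem π_eq_zero {x : U} : π b φ x = 0 ↔ x ∈ Faithful.I b φ := Ideal.Quotient.eq_zero_iff_mem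

/-- The inclusion of `L`. -/
noncomputable def j : L →ₗ[k] E b φ :=
  (π b φ).toLinearMap ∘ₗ (UniversalEnvelopingAlgebra.ι k : L →ₗ⁅k⁆ U).toLinearMap

theorem j_apply (x : L) : j b φ x = π b φ (ι k x) := rfl

theorem j_lie (x y : L) : j b φ ⁅x, y⁆ = j b φ x * j b φ y - j b φ y * j b φ x := by
  rw [j_apply, LieHom.map_lie, LieRing.of_associative_ring_bracket, map_sub, map_mul, map_mul]
  rfl

theorem j_pow (x : L) : j b φ (φ x) = j b φ x ^ p := by
  rw [j_apply, j_apply, ← map_pow, ← sub_eq_zero, ← map_sub, π_eq_zero]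
  exact Faithful.pmap_sub_mem b φ x

theorem j_injective : Function.Injective (j b φ) := by
  rw [injective_iff_map_eq_zero]
  intro x hx
  exact Faithful.eq_zero_of_iota_mem b φ ((π_eq_zero b φ).1 hx)

theorem hom_ext {B : Type*} [Ring B] [Algebra k B] {f g : E b φ →ₐ[k] B}
    (h : ∀ x, f (j b φ x) = g (j b φ x)) : f = g :=
  Ideal.Quotient.algHom_ext k (UniversalEnvelopingAlgebra.hom_ext k (LieHom.ext h))

section Lift

variable {B : Type*} [Ring B] [Algebra k B] (f : L →ₗ[k] B)
  (hl : ∀ x y, f ⁅x, y⁆ = f x * f y - f y * f x) (hp : ∀ x, f x ^ p = f (φ x))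

/-- The universal property. -/
noncomputable def lift : E b φ →ₐ[k] B :=
  Ideal.Quotient.liftₐ (J b φ)
    (UniversalEnvelopingAlgebra.lift k
      ({ f with map_lie' := fun {x y} => (hl x y).trans (LieRing.of_associative_ring_bracket _ _).symm } : L →ₗ⁅k⁆ B))
    fun a ha => by
      set F := UniversalEnvelopingAlgebra.lift k
        ({ f with map_lie' := fun {x y} => (hl x y).trans (LieRing.of_associative_ring_bracket _ _).symm } : L →ₗ⁅k⁆ B)
      have h : Faithful.I b φ ≤ LinearMap.ker F.toLinearMap := iSup_le fun i => by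
        rintro _ ⟨y, rfl⟩
        rw [LinearMap.mem_ker, LinearMap.mulLeft_apply]
        show F (Faithful.z b φ i * y) = 0
        rw [map_mul, Faithful.z, map_sub, map_pow]
        simp only [F, UniversalEnvelopingAlgebra.lift_ι_apply]
        show (f (b i) ^ p - f (φ (b i))) * _ = 0
        rw [hp, sub_self, zero_mul]
      exact h ha

@[simp] theorem lift_j (x : L) : lift b φ f hl hp (j b φ x) = f x :=
  UniversalEnvelopingAlgebra.lift_ι_apply k _ x

end Lift

theorem induction {P : E b φ → Prop} (halg : ∀ r : k, P (algebraMap k _ r)) (hj : ∀ x, P (j b φ x))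
    (hmul : ∀ a c, P a → P c → P (a * c)) (hadd : ∀ a c, P a → P c → P (a + c)) (a : E b φ) : P a := by
  obtain ⟨w, rfl⟩ := π_surjective b φ a
  obtain ⟨t, rfl⟩ : ∃ t, UniversalEnvelopingAlgebra.mkAlgHom k L t = w :=
    RingCon.mk'_surjective (c := UniversalEnvelopingAlgebra.ringCon k L) w
  induction t using TensorAlgebra.induction with
  | algebraMap r => rw [AlgHom.commutes, AlgHom.commutes]; exact halg r
  | ι y => exact hj y
  | mul a c ha hc => rw [map_mul, map_mul]; exact hmul _ _ ha hc
  | add a c ha hc => rw [map_add, map_add]; exact hadd _ _ ha hc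

/-! ### finiteness and dimension -/

instance finite : Module.Finite k (E b φ) := by
  haveI := Faithful.finite_quotient b φ
  refine Module.Finite.of_surjective
    ((Faithful.I b φ).liftQ (π b φ).toLinearMap fun x hx => (π_eq_zero b φ).2 hx) fun y => ?_
  obtain ⟨w, rfl⟩ := π_surjective b φ y
  exact ⟨Submodule.Quotient.mk w, rfl⟩

theorem finrank_le : Module.finrank k (E b φ) ≤ p ^ n := by
  classical
  have hp0 : 0 < p := (Fact.out : p.Prime).pos
  let g : (Fin n → Fin p) → E b φ := fun e =>
    π b φ (PBW.mon b ((List.finRange n).flatMap fun i => List.replicate (e i : ℕ) i))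
  have hs : ∀ s : {l : List (Fin n) // l.SortedLE},
      π b φ (Faithful.E b φ s.1) ∈ Submodule.span k (Set.range g) := by
    intro s
    cases hq : Faithful.quo p s.1 with
    | nil =>
      refine Submodule.subset_span ⟨fun i => ⟨s.1.count i % p, Nat.mod_lt _ hp0⟩, ?_⟩
      rw [Faithful.E, hq]
      simp [g, Faithful.zw, Faithful.rem]
    | cons i l =>
      have : π b φ (Faithful.E b φ s.1) = 0 := (π_eq_zero b φ).2 (by
        rw [Faithful.E, hq, show Faithful.zw b φ (i :: l) = Faithful.z b φ i * Faithful.zw b φ l by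
          simp [Faithful.zw], mul_assoc]
        exact Faithful.z_mul_mem b φ i _)
      rw [this]
      exact zero_mem _
  have htop : (⊤ : Submodule k (E b φ)) = Submodule.span k (Set.range g) := by
    refine (eq_top_iff.2 fun y _ => ?_).symm
    obtain ⟨w, rfl⟩ := π_surjective b φ y
    obtain ⟨v, rfl⟩ := Faithful.T_surjective b φ w
    rw [← (Faithful.B b).linearCombination_repr v, Finsupp.linearCombination_apply, Finsupp.sum]
    simp only [map_sum, map_smul, Faithful.T_B]
    exact Submodule.sum_mem _ fun s _ => Submodule.smul_mem _ _ (hs s)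
  rw [← finrank_top, htop]
  exact (finrank_range_le_card g).trans_eq (by simp)

/-! ### Hopf structure -/

/-- The counit. -/
noncomputable def eps : E b φ →ₐ[k] k :=
  lift b φ 0 (fun x y => by simp) (fun x => by simp [(Fact.out : p.Prime).ne_zero])

@[simp] theorem eps_j (x : L) : eps b φ (j b φ x) = 0 := lift_j ..

instance nontrivial : Nontrivial (E b φ) := (eps b φ).toRingHom.domain_nontrivial

instance nontrivial₂ : Nontrivial (E b φ ⊗[k] E b φ) :=
  ((Algebra.TensorProduct.lid k k).toAlgHom.comp
    (Algebra.TensorProduct.map (eps b φ) (eps b φ))).toRingHom.domain_nontrivial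

theorem comul_lie (x y : L) :
    (j b φ ⁅x, y⁆) ⊗ₜ[k] (1 : E b φ) + (1 : E b φ) ⊗ₜ[k] j b φ ⁅x, y⁆ =
      (j b φ x ⊗ₜ 1 + 1 ⊗ₜ j b φ x) * (j b φ y ⊗ₜ 1 + 1 ⊗ₜ j b φ y) -
        (j b φ y ⊗ₜ 1 + 1 ⊗ₜ j b φ y) * (j b φ x ⊗ₜ 1 + 1 ⊗ₜ j b φ x) := by
  simp only [j_lie, sub_tmul, tmul_sub, add_mul, mul_add, Algebra.TensorProduct.tmul_mul_tmul, mul_one, one_mul]
  abel

theorem comul_pow (x : L) :
    ((j b φ x) ⊗ₜ[k] (1 : E b φ) + (1 : E b φ) ⊗ₜ[k] j b φ x) ^ p =
      j b φ (φ x) ⊗ₜ 1 + 1 ⊗ₜ j b φ (φ x) := by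
  haveI : CharP (E b φ ⊗[k] E b φ) p := charP_of_injective_algebraMap (algebraMap k _).injective p
  have hc : Commute ((j b φ x) ⊗ₜ[k] (1 : E b φ)) ((1 : E b φ) ⊗ₜ[k] j b φ x) := by
    simp [Commute, SemiconjBy]
  rw [add_pow_char_of_commute p hc, Algebra.TensorProduct.tmul_pow, Algebra.TensorProduct.tmul_pow, one_pow, j_pow]

/-- The comultiplication. -/
noncomputable def dlt : E b φ →ₐ[k] E b φ ⊗[k] E b φ :=
  lift b φ (((TensorProduct.mk k (E b φ) (E b φ)).flip 1) ∘ₗ j b φ + (TensorProduct.mk k (E b φ) (E b φ) 1) ∘ₗ j b φ)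
    (fun x y => comul_lie b φ x y) (fun x => comul_pow b φ x)

@[simp] theorem dlt_j (x : L) : dlt b φ (j b φ x) = j b φ x ⊗ₜ 1 + 1 ⊗ₜ j b φ x := lift_j ..

/-- The antipode, as a map to the opposite algebra. -/
noncomputable def anti : E b φ →ₐ[k] (E b φ)ᵐᵒᵖ :=
  lift b φ (-((MulOpposite.opLinearEquiv k).toLinearMap ∘ₗ j b φ))
    (fun x y => by
      apply MulOpposite.unop_injective
      simp only [LinearMap.neg_apply, LinearMap.comp_apply, LinearEquiv.coe_coe, MulOpposite.coe_opLinearEquiv,
        MulOpposite.unop_sub, MulOpposite.unop_mul, MulOpposite.unop_neg, MulOpposite.unop_op, j_lie, neg_mul_neg]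
      abel)
    (fun x => by
      apply MulOpposite.unop_injective
      haveI : CharP (E b φ) p := charP_of_injective_algebraMap (algebraMap k _).injective p
      simp only [LinearMap.neg_apply, LinearMap.comp_apply, LinearEquiv.coe_coe, MulOpposite.coe_opLinearEquiv,
        MulOpposite.unop_pow, MulOpposite.unop_neg, MulOpposite.unop_op, j_pow]
      rw [neg_pow, neg_one_pow_char (E b φ) p, neg_one_mul])

@[simp] theorem anti_j (x : L) : anti b φ (j b φ x) = -MulOpposite.op (j b φ x) := lift_j ..

noncomputable instance bialgebra : Bialgebra k (E b φ) :=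
  Bialgebra.ofAlgHom (dlt b φ) (eps b φ)
    (hom_ext b φ fun x => by
      simp [tmul_add, add_tmul, Algebra.TensorProduct.one_def]
      abel)
    (hom_ext b φ fun x => by simp)
    (hom_ext b φ fun x => by simp)

theorem comul_apply (a : E b φ) : Coalgebra.comul (R := k) a = dlt b φ a := rfl

theorem counit_apply (a : E b φ) : Coalgebra.counit (R := k) a = eps b φ a := rfl

/-- The antipode. -/
noncomputable def S : E b φ →ₗ[k] E b φ :=
  (MulOpposite.opLinearEquiv k).symm.toLinearMap ∘ₗ (anti b φ).toLinearMap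

theorem S_apply (a : E b φ) : S b φ a = (anti b φ a).unop := rfl

@[simp] theorem S_one : S b φ 1 = 1 := by simp [S_apply]

@[simp] theorem S_j (x : L) : S b φ (j b φ x) = -j b φ x := by simp [S_apply]

theorem S_mul (a c : E b φ) : S b φ (a * c) = S b φ c * S b φ a := by simp [S_apply]

theorem antipode_left (a : E b φ) :
    LinearMap.mul' k _ ((S b φ).rTensor _ (dlt b φ a)) = algebraMap k _ (eps b φ a) := by
  induction a using induction b φ with
  | halg r => simp [Algebra.TensorProduct.one_def, Algebra.algebraMap_eq_smul_one, TensorProduct.smul_tmul']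
  | hj x => simp
  | hadd a c ha hc => simp [ha, hc]
  | hmul a c ha hc =>
    have key : ∀ t t' : E b φ ⊗[k] E b φ, LinearMap.mul' k _ ((S b φ).rTensor _ t) = algebraMap k _ (eps b φ a) →
        LinearMap.mul' k _ ((S b φ).rTensor _ (t * t')) = eps b φ a • LinearMap.mul' k _ ((S b φ).rTensor _ t') := by
      intro t t' ht
      induction t' with
      | zero => simp
      | add y z hy hz => simp [mul_add, hy, hz]
      | tmul c₁ c₂ =>
        have hcalc : ∀ t : E b φ ⊗[k] E b φ, LinearMap.mul' k _ ((S b φ).rTensor _ (t * c₁ ⊗ₜ c₂)) =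
            S b φ c₁ * LinearMap.mul' k _ ((S b φ).rTensor _ t) * c₂ := by
          intro t
          induction t with
          | zero => simp
          | add y z hy hz => simp [add_mul, mul_add, hy, hz]
          | tmul a₁ a₂ => simp [S_mul, mul_assoc]
        rw [hcalc, ht, ← Algebra.commutes, mul_assoc, LinearMap.rTensor_tmul, LinearMap.mul'_apply,
          Algebra.smul_def]
    rw [map_mul (dlt b φ), map_mul (eps b φ), key _ _ ha, hc, Algebra.smul_def, map_mul]

theorem antipode_right (a : E b φ) :
    LinearMap.mul' k _ ((S b φ).lTensor _ (dlt b φ a)) = algebraMap k _ (eps b φ a) := by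
  induction a using induction b φ with
  | halg r => simp [Algebra.TensorProduct.one_def, Algebra.algebraMap_eq_smul_one, TensorProduct.smul_tmul']
  | hj x => simp
  | hadd a c ha hc => simp [ha, hc]
  | hmul a c ha hc =>
    have key : ∀ t t' : E b φ ⊗[k] E b φ, LinearMap.mul' k _ ((S b φ).lTensor _ t') = algebraMap k _ (eps b φ c) →
        LinearMap.mul' k _ ((S b φ).lTensor _ (t * t')) = eps b φ c • LinearMap.mul' k _ ((S b φ).lTensor _ t) := by
      intro t t' ht
      induction t with
      | zero => simp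
      | add y z hy hz => simp [add_mul, hy, hz]
      | tmul a₁ a₂ =>
        have hcalc : ∀ t : E b φ ⊗[k] E b φ, LinearMap.mul' k _ ((S b φ).lTensor _ (a₁ ⊗ₜ a₂ * t)) =
            a₁ * LinearMap.mul' k _ ((S b φ).lTensor _ t) * S b φ a₂ := by
          intro t
          induction t with
          | zero => simp
          | add y z hy hz => simp [add_mul, mul_add, hy, hz]
          | tmul c₁ c₂ => simp [S_mul, mul_assoc]
        rw [hcalc, ht, ← Algebra.commutes, mul_assoc, LinearMap.lTensor_tmul, LinearMap.mul'_apply,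
          Algebra.smul_def]
    rw [map_mul (dlt b φ), map_mul (eps b φ), key _ _ hc, ha, Algebra.smul_def, map_mul, Algebra.commutes]

noncomputable instance hopfAlgebra : HopfAlgebra k (E b φ) where
  antipode := S b φ
  mul_antipode_rTensor_comul := LinearMap.ext fun a => antipode_left b φ a
  mul_antipode_lTensor_comul := LinearMap.ext fun a => antipode_right b φ a

instance isCocomm : Coalgebra.IsCocomm k (E b φ) where
  comm_comp_comul := by
    have h : (Algebra.TensorProduct.comm k (E b φ) (E b φ)).toAlgHom.comp (dlt b φ) = dlt b φ :=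
      hom_ext b φ fun x => by simp [add_comm]
    exact LinearMap.ext fun a => AlgHom.congr_fun h a

end Groth.Agent.Hopf43.Env
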